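import Groth.Agent.HomTriv.Ideal
import Groth.Agent.TrivAct.FibreApps
import Groth.Agent.MonoFibre.Homogeneous2
/-!
Centrality of a homomorphism over a scheme over the base.
-/

set_option autoImplicit false
set_option backward.isDefEq.respectTransparency false
set_option backward.isDefEq.respectTransparency.types false
set_option linter.style.haveILetI false

universe u

open CategoryTheory CategoryTheory.Limits MonoidalCategory CartesianMonoidalCategory MonObj AlgebraicGeometry

noncomputable section

namespace Groth.Agent.CentralLoc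

variable {S : Scheme.{u}} {H G : Over S} [GrpObj H] [GrpObj G]

/-- `u` is central over `t`. -/
def CentralOn (u : H ⟶ G) {T : Scheme.{u}} (t : T ⟶ S) : Prop :=
  ∀ (Y : Over S) (_ : Y ⟶ Over.mk t) (g : Y ⟶ G) (h : Y ⟶ H), g * (h ≫ u) = (h ≫ u) * g

theorem CentralOn.of_comp {u : H ⟶ G} {T T' : Scheme.{u}} {t : T ⟶ S} (hc : CentralOn u t) (k : T' ⟶ T)
    {t' : T' ⟶ S} (hk : k ≫ t = t') : CentralOn u t' := fun Y p g h => hc Y (p ≫ Over.homMk k hk) g h

/-- The residue field of a point of a chart maps to that of its image. -/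
theorem exists_residue_factor {B : CommRingCat.{u}} (t : Spec B ⟶ S) (P : PrimeSpectrum B) :
    ∃ k : Spec (CommRingCat.of P.asIdeal.ResidueField) ⟶ Spec (S.residueField (t P)),
      Flat k ∧ Surjective k ∧ QuasiCompact k ∧
      k ≫ S.fromSpecResidueField (t P) =
        Spec.map (CommRingCat.ofHom (algebraMap B P.asIdeal.ResidueField)) ≫ t := by
  let c : Spec (CommRingCat.of P.asIdeal.ResidueField) ⟶ S :=
    Spec.map (CommRingCat.ofHom (algebraMap B P.asIdeal.ResidueField)) ≫ t
  have hP : c (IsLocalRing.closedPoint P.asIdeal.ResidueField) = t P := by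
    show (Spec.map _ ≫ t) _ = _
    rw [Scheme.Hom.comp_apply]
    congr 1
    refine PrimeSpectrum.ext ?_
    show (IsLocalRing.maximalIdeal P.asIdeal.ResidueField).comap (algebraMap B P.asIdeal.ResidueField) = _
    rw [IsLocalRing.maximalIdeal_eq_bot]
    exact Ideal.ker_algebraMap_residueField P.asIdeal
  show ∃ k : Spec (CommRingCat.of P.asIdeal.ResidueField) ⟶ Spec (S.residueField (t P)),
    Flat k ∧ Surjective k ∧ QuasiCompact k ∧ k ≫ S.fromSpecResidueField (t P) = c
  rw [← hP]
  exact ⟨Spec.map (Scheme.descResidueField (Scheme.stalkClosedPointTo c)),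
    (HasRingHomProperty.Spec_iff (P := @Flat)).2 (MonoFibre.flat_of_field _),
    ⟨fun z => ⟨IsLocalRing.closedPoint P.asIdeal.ResidueField,
      @Subsingleton.elim _ (inferInstanceAs (Subsingleton (PrimeSpectrum (S.residueField _)))) _ _⟩⟩,
    inferInstance, Scheme.descResidueField_stalkClosedPointTo_fromSpecResidueField _ _ c⟩

/-- Centrality at a point gives centrality over rings over its residue field. -/
theorem CentralOn.of_fibre {u : H ⟶ G} {B : CommRingCat.{u}} (t : Spec B ⟶ S) (P : PrimeSpectrum B)
    (hc : CentralOn u (S.fromSpecResidueField (t P))) {D : CommRingCat.{u}} (g : B ⟶ D)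
    (hg : P.asIdeal ≤ RingHom.ker g.hom) (hu : ∀ r, r ∉ P.asIdeal → IsUnit (g.hom r)) :
    CentralOn u (Spec.map g ≫ t) := by
  obtain ⟨k, -, -, -, hk⟩ := exists_residue_factor t P
  let l : CommRingCat.of P.asIdeal.ResidueField ⟶ D :=
    CommRingCat.ofHom (Ideal.ResidueField.lift P.asIdeal g.hom hg fun r hr => hu r hr)
  have hl : CommRingCat.ofHom (algebraMap B P.asIdeal.ResidueField) ≫ l = g :=
    CommRingCat.hom_ext (RingHom.ext fun r => Ideal.ResidueField.lift_algebraMap P.asIdeal g.hom hg (fun r hr => hu r hr) r)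
  refine hc.of_comp (Spec.map l ≫ k) ?_
  rw [Category.assoc, hk, ← hl, Spec.map_comp, Category.assoc]

/-- Centrality descends along field extensions. -/
theorem fibre_of_residue (u : H ⟶ G) {B : CommRingCat.{u}} (t : Spec B ⟶ S) (P : PrimeSpectrum B)
    (hc : CentralOn u (Spec.map (CommRingCat.ofHom (algebraMap B P.asIdeal.ResidueField)) ≫ t)) :
    CentralOn u (S.fromSpecResidueField (t P)) := by
  obtain ⟨k, _, _, _, hk⟩ := exists_residue_factor t P
  intro Y p g h
  let π : pullback p.left k ⟶ Y.left := pullback.fst p.left k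
  haveI : Flat π := MorphismProperty.pullback_fst _ _ ‹Flat k›
  haveI : Surjective π := MorphismProperty.pullback_fst _ _ ‹Surjective k›
  haveI : QuasiCompact π := MorphismProperty.pullback_fst _ _ ‹QuasiCompact k›
  haveI : Epi π := Flat.epi_of_flat_of_surjective _
  let f : Over.mk (π ≫ Y.hom) ⟶ Y := Over.homMk π rfl
  have hw : pullback.snd p.left k ≫ (Spec.map (CommRingCat.ofHom (algebraMap B P.asIdeal.ResidueField)) ≫ t) =
      π ≫ Y.hom := by
    refine (congrArg (pullback.snd p.left k ≫ ·) hk.symm).trans ?_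
    show pullback.snd p.left k ≫ k ≫ _ = _
    rw [← Category.assoc, ← pullback.condition, Category.assoc]
    exact congrArg (π ≫ ·) (Over.w p)
  have h2 := hc _ (Over.homMk (pullback.snd p.left k) hw) (f ≫ g) (f ≫ h)
  simp only [Category.assoc, ← MonObj.comp_mul] at h2
  apply Over.OverMorphism.ext
  rw [← cancel_epi π]
  exact congrArg CommaMorphism.left h2

end Groth.Agent.CentralLoc
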