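import Groth.Agent.CentralLoc.Basic
import Groth.Agent.TrivAct.FibreChart
import Groth.Agent.FixedSmooth.SmoothFixed
/-!
Centrality over a chart on which the group is split, from centrality on the fibres.
-/

set_option autoImplicit false
set_option backward.isDefEq.respectTransparency false
set_option backward.isDefEq.respectTransparency.types false
set_option linter.style.haveILetI false

universe u

open CategoryTheory CategoryTheory.Limits MonoidalCategory CartesianMonoidalCategory MonObj AlgebraicGeometry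

noncomputable section

namespace Groth.Agent.CentralLoc

open FixedSmooth

variable {S : Scheme.{u}} {H G : Over S} [GrpObj H] [GrpObj G] [LocallyOfFiniteType G.hom]

theorem central_chart {B : CommRingCat.{u}} {t : Spec B ⟶ S} {M : Type} [AddCommGroup M] (σ : Split H t M)
    (u : H ⟶ G) [IsMonHom u] (hfib : ∀ P : Spec B, CentralOn u (S.fromSpecResidueField (t P))) :
    CentralOn u t := by
  intro Y p g h
  refine hom_ext_affine _ _ fun D p₀ w => ?_
  rw [MonObj.comp_mul, MonObj.comp_mul, ← Category.assoc]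
  obtain ⟨β, hβ⟩ := Spec.map_surjective (w ≫ p).left
  have hp₀ : p₀ = Spec.map β ≫ t := by rw [hβ]; exact (Over.w (w ≫ p)).symm
  apply Over.OverMorphism.ext
  refine Scheme.hom_ext_of_forall _ _ fun z => ?_
  obtain ⟨V, hV, hzV, -⟩ := exists_isAffineOpen_mem_and_subset (x := p₀ z) (U := ⊤) trivial
  haveI : IsAffine V.toScheme := hV
  let gl : Spec D ⟶ G.left := (w ≫ g).left
  have hgl : gl ≫ G.hom = p₀ := Over.w (w ≫ g)
  obtain ⟨W, hW, hzW, hWV⟩ := exists_isAffineOpen_mem_and_subset (x := gl z) (U := G.hom ⁻¹ᵁ V) (by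
    show G.hom (gl z) ∈ V
    rw [← Scheme.Hom.comp_apply, hgl]; exact hzV)
  haveI : IsAffine W.toScheme := hW
  obtain ⟨_, ⟨f, rfl⟩, hzf, hfW⟩ :=
    PrimeSpectrum.isTopologicalBasis_basic_opens.exists_subset_of_mem_open (a := (z : PrimeSpectrum D))
      (show (z : Spec D) ∈ ((gl ⁻¹ᵁ W : (Spec D).Opens) : Set (Spec D)) from hzW) (gl ⁻¹ᵁ W).2
  refine ⟨PrimeSpectrum.basicOpen f, hzf, ?_⟩
  let D' : CommRingCat.{u} := CommRingCat.of (Localization.Away f)
  let ℓ : D ⟶ D' := CommRingCat.ofHom (algebraMap D (Localization.Away f))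
  have hrange : Set.range (Spec.map ℓ) = (PrimeSpectrum.basicOpen f : Set (PrimeSpectrum D)) :=
    PrimeSpectrum.localization_away_comap_range (Localization.Away f) f
  let q : Spec D' ⟶ Spec B := Spec.map ℓ ≫ Spec.map β
  let k : Over.mk (q ≫ t) ⟶ Over.mk p₀ := Over.homMk (Spec.map ℓ) (by simp [q, hp₀])
  have hgW : Set.range (Spec.map ℓ ≫ gl) ⊆ (W : Set G.left) := by
    rintro _ ⟨y, rfl⟩
    rw [Scheme.Hom.comp_apply]
    refine hfW ?_
    show Spec.map ℓ y ∈ (PrimeSpectrum.basicOpen f : Set (PrimeSpectrum D))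
    rw [← hrange]
    exact ⟨y, rfl⟩
  haveI : IsAffine (pullback (W.ι ≫ G.hom) (q ≫ t)) :=
    isAffine_pullback_of_factor V _ _ (G.hom.resLE V W hWV)
      (IsOpenImmersion.lift V.ι (q ≫ t) (by
        rw [Scheme.Opens.range_ι]
        rintro _ ⟨y, rfl⟩
        have e : (Spec.map ℓ ≫ gl) ≫ G.hom = q ≫ t := by rw [Category.assoc, hgl]; simp [q, hp₀]
        rw [← e, Scheme.Hom.comp_apply]
        exact hWV (hgW ⟨y, rfl⟩)))
      (Scheme.Hom.resLE_comp_ι _ _) (IsOpenImmersion.lift_fac _ _ _)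
  have hft : LocallyOfFiniteType (pullback.snd (W.ι ≫ G.hom) (q ≫ t)) := inferInstance
  have key := TrivAct.act_fixes_chart_fibres (conjAct u u) (conjAct_act u u)
    (fun Y x => by simp [lift_conjAct, MonObj.one_comp]) σ D' q W hft
    (fun P {B'} g' hg' hu' h' x' => by
      rw [lift_conjAct]
      obtain ⟨r, hr⟩ : ∃ r : B ⟶ D', Spec.map r = q := ⟨β ≫ ℓ, Spec.map_comp β ℓ⟩
      have hP : CentralOn u (S.fromSpecResidueField (t (q P))) := hfib (q P)
      have h1 : CentralOn u (Spec.map (r ≫ g') ≫ t) := by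
        refine CentralOn.of_fibre t (q P) hP (r ≫ g') (fun a ha => ?_) (fun a ha => ?_)
        · refine RingHom.mem_ker.2 (hg' ?_)
          rw [← hr] at ha
          exact ha
        · refine hu' _ fun ha' => ha ?_
          rw [← hr]
          exact ha'
      have h2 : CentralOn u ((Spec.map g' ≫ q) ≫ t) := h1.of_comp (𝟙 _) (by simp [Spec.map_comp, hr])
      rw [← h2 _ (𝟙 _) x' h', mul_inv_cancel_right])
    (k ≫ w ≫ h) (k ≫ w ≫ g) hgW
  rw [lift_conjAct, mul_inv_eq_iff_eq_mul] at key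
  have key' : k ≫ ((w ≫ h) ≫ u * w ≫ g) = k ≫ (w ≫ g * (w ≫ h) ≫ u) := by
    simpa [MonObj.comp_mul] using key
  have e := congrArg CommaMorphism.left key'
  haveI : IsOpenImmersion (Spec.map ℓ) := IsOpenImmersion.of_isLocalization (S := Localization.Away f) f
  let O : (Spec D).Opens := PrimeSpectrum.basicOpen f
  let m : O.toScheme ⟶ Spec D' := IsOpenImmersion.lift (Spec.map ℓ) O.ι (by rw [Scheme.Opens.range_ι, hrange])
  have hm : m ≫ Spec.map ℓ = O.ι := IsOpenImmersion.lift_fac _ _ _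
  exact (congrArg (fun z => z ≫ _) hm.symm).trans ((Category.assoc _ _ _).trans ((congrArg (m ≫ ·) e.symm).trans
    ((Category.assoc _ _ _).symm.trans (congrArg (fun z => z ≫ _) hm))))

end Groth.Agent.CentralLoc
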