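import Groth.Agent.MonoFibre.RigidityGrp
/-!
A homomorphism into a connected group over a field which commutes with a nonempty open is central.
-/

set_option autoImplicit false

universe u

open CategoryTheory CategoryTheory.Limits MonoidalCategory CartesianMonoidalCategory MonObj AlgebraicGeometry

noncomputable section

namespace Groth.Agent.CentralLoc

variable {k : Type u} [Field k] {H G : Over (Spec (CommRingCat.of k))} [GrpObj G] [LocallyOfFiniteType G.hom]
  [ConnectedSpace G.left]

/-- Commuting with a nonempty open of a connected group is commuting with the group. -/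
theorem comm_of_open (φ : H ⟶ G) {W : Over (Spec (CommRingCat.of k))} (w : W ⟶ G) [IsOpenImmersion w.left]
    {x : G.left} (hx : x ∈ Set.range w.left)
    (key : ∀ {T : Over (Spec (CommRingCat.of k))} (y : T ⟶ H) (a : T ⟶ W),
      (y ≫ φ) * (a ≫ w) = (a ≫ w) * (y ≫ φ))
    {T : Over (Spec (CommRingCat.of k))} (y : T ⟶ H) (g : T ⟶ G) : (y ≫ φ) * g = g * (y ≫ φ) := by
  haveI := MonoFibre.Rigidity.epi_whiskerLeft_mul (X := H) w (MonoFibre.Rigidity.dense_range_of_open w hx)
  have heq : (fst H G ≫ φ) * snd H G = snd H G * (fst H G ≫ φ) := by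
    rw [← cancel_epi (H ◁ ((w ⊗ₘ w) ≫ μ[G]))]
    let z : H ⊗ (W ⊗ W) ⟶ H := fst _ _
    let a : H ⊗ (W ⊗ W) ⟶ W := snd _ _ ≫ fst _ _
    let b : H ⊗ (W ⊗ W) ⟶ W := snd _ _ ≫ snd _ _
    have hl : H ◁ ((w ⊗ₘ w) ≫ μ[G]) = lift z ((a ≫ w) * (b ≫ w)) := by
      apply CartesianMonoidalCategory.hom_ext
      · simp [z]
      · rw [lift_snd, whiskerLeft_snd, Hom.mul_def, ← Category.assoc]
        congr 1
        apply CartesianMonoidalCategory.hom_ext <;> simp [a, b]
    rw [hl, MonObj.comp_mul, MonObj.comp_mul, ← Category.assoc, lift_fst, lift_snd, ← _root_.mul_assoc, key z a,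
      _root_.mul_assoc, key z b, _root_.mul_assoc]
  have h2 := congrArg (fun ψ => lift y g ≫ ψ) heq
  simpa only [MonObj.comp_mul, ← Category.assoc, lift_fst, lift_snd] using h2

end Groth.Agent.CentralLoc
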