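import Groth.Agent.CentralLoc.Basic
import Groth.Agent.CentralLoc.Open
import Groth.Agent.HomTriv.KeyLft
import Groth.Agent.MonoFibre.Connected
import Groth.Agent.FixedSmooth.Normalizer
/-!
Centrality at a point spreads to the connected fibres over its generalisations.
-/

set_option autoImplicit false
set_option backward.isDefEq.respectTransparency false
set_option backward.isDefEq.respectTransparency.types false
set_option linter.style.haveILetI false

universe u

open CategoryTheory CategoryTheory.Limits MonoidalCategory CartesianMonoidalCategory MonObj AlgebraicGeometry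

noncomputable section

namespace Groth.Agent.CentralLoc

open FixedSmooth HomTriv

variable {S : Scheme.{u}} {H G : Over S} [GrpObj H] [GrpObj G]

/-- A finitely generated ideal of a group algebra killed in a localisation is killed in a basic open. -/
theorem exists_away_le_ker {R : CommRingCat.{u}} (q : PrimeSpectrum R) {M : Type} [AddCommGroup M]
    (J : Ideal (GA R M)) (hJ : J.FG) (h : J ≤ RingHom.ker (gmap (toLoc q) M).hom) :
    ∃ f : R, f ∉ q.asIdeal ∧
      J ≤ RingHom.ker (gmap (CommRingCat.ofHom (algebraMap R (Localization.Away f))) M).hom := by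
  classical
  obtain ⟨s, hs⟩ := hJ
  let Φ : Finset R := s.biUnion fun w => w.coeff.support.image fun m => MonoidAlgebra.coeff w m
  have hΦ : ∀ c ∈ Φ, ∃ a, a ∉ q.asIdeal ∧ a * c = 0 := fun c hc => by
    obtain ⟨w, hw, hc⟩ := Finset.mem_biUnion.1 hc
    obtain ⟨m, -, rfl⟩ := Finset.mem_image.1 hc
    have h0 : MonoidAlgebra.mapRingHom (Multiplicative M) (toLoc q).hom w = 0 := h (hs ▸ Ideal.subset_span hw)
    have h1 := congrArg (fun z => MonoidAlgebra.coeff z m) h0
    simp only [MonoidAlgebra.coeff_zero, Finsupp.coe_zero, Pi.zero_apply] at h1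
    obtain ⟨⟨a, ha⟩, ha0⟩ := (IsLocalization.map_eq_zero_iff q.asIdeal.primeCompl (Localization.AtPrime q.asIdeal)
      (MonoidAlgebra.coeff w m)).1 (by simpa using h1)
    exact ⟨a, ha, ha0⟩
  choose! a ha ha0 using hΦ
  refine ⟨∏ c ∈ Φ, a c, fun hP => ?_, ?_⟩
  · obtain ⟨c, hc, hc'⟩ := q.isPrime.prod_mem_iff.1 hP
    exact ha c hc hc'
  rw [← hs, Ideal.span_le]
  intro w hw
  show MonoidAlgebra.mapRingHom (Multiplicative M) _ w = 0
  ext m
  simp only [MonoidAlgebra.coeff_zero, Finsupp.coe_zero, Pi.zero_apply]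
  by_cases hm : m ∈ w.coeff.support
  · have hc : MonoidAlgebra.coeff w m ∈ Φ := Finset.mem_biUnion.2 ⟨w, hw, Finset.mem_image_of_mem _ hm⟩
    have hu := isUnit_of_dvd_unit (map_dvd (algebraMap R (Localization.Away (∏ c ∈ Φ, a c))) (Finset.dvd_prod_of_mem a hc))
      (IsLocalization.Away.algebraMap_isUnit _)
    have h1 : algebraMap R (Localization.Away (∏ c ∈ Φ, a c)) (a (MonoidAlgebra.coeff w m)) *
        algebraMap R (Localization.Away (∏ c ∈ Φ, a c)) (MonoidAlgebra.coeff w m) = 0 := by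
      rw [← map_mul, ha0 _ hc, map_zero]
    simpa using hu.mul_right_eq_zero.1 h1
  · simp [Finsupp.notMem_support_iff.1 hm]

theorem central_of_specializes [LocallyOfFiniteType G.hom]
    (hconn : ∀ t : S, ConnectedSpace ↥(pullback G.hom (S.fromSpecResidueField t)))
    {B : CommRingCat.{u}} {t : Spec B ⟶ S} {M : Type} [AddCommGroup M] [AddGroup.FG M] (σ : Split H t M)
    (u : H ⟶ G) [IsMonHom u] (P p' : PrimeSpectrum B) (hle : p'.asIdeal ≤ P.asIdeal)
    (hc : CentralOn u (S.fromSpecResidueField (t P))) :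
    CentralOn u (S.fromSpecResidueField (t p')) := by
  refine fibre_of_residue u t p' ?_
  let A : CommRingCat.{u} := CommRingCat.of (Localization.AtPrime P.asIdeal)
  let q : Spec A ⟶ Spec B := Spec.map (toLoc P)
  let K : CommRingCat.{u} := CommRingCat.of p'.asIdeal.ResidueField
  let res' : B ⟶ K := CommRingCat.ofHom (algebraMap B p'.asIdeal.ResidueField)
  let c : Spec K ⟶ S := Spec.map res' ≫ t
  show CentralOn u c
  let a : A ⟶ K := CommRingCat.ofHom (IsLocalization.lift (M := P.asIdeal.primeCompl)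
    (g := algebraMap B p'.asIdeal.ResidueField) fun r =>
      IsUnit.mk0 _ (mt Ideal.algebraMap_residueField_eq_zero.1 fun hr => r.2 (hle hr)))
  have hac : toLoc P ≫ a = res' := CommRingCat.hom_ext (IsLocalization.lift_comp _)
  -- local triviality along the unit section
  let one : Over.mk (q ≫ t) ⟶ G := 1
  let e : Spec A ⟶ pullback G.hom (q ≫ t) := pullback.lift one.left (𝟙 _) (by
    rw [Category.id_comp]; exact Over.w one)
  let cl : Spec A := IsLocalRing.closedPoint (Localization.AtPrime P.asIdeal)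
  have hcl : (pullback.snd G.hom (q ≫ t) (e cl) : PrimeSpectrum A).asIdeal =
      IsLocalRing.maximalIdeal (Localization.AtPrime P.asIdeal) := by
    rw [← Scheme.Hom.comp_apply, pullback.lift_snd]
    rfl
  obtain ⟨C, iC, xP, hxP, -, hfac, htriv⟩ := TrivAct.exists_local_torsion_trivial (conjAct u u) (conjAct_act u u)
    (fun Y x => by simp [lift_conjAct, MonObj.one_comp]) σ A q (e cl) (fun {B'} g hg hu h y => by
      rw [hcl] at hg hu
      rw [lift_conjAct]
      have h1 : CentralOn u (Spec.map (toLoc P ≫ g) ≫ t) := CentralOn.of_fibre t P hc _ (fun r hr => hg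
        (by rw [← Localization.AtPrime.comap_maximalIdeal (I := P.asIdeal)] at hr; exact hr))
        (fun r hr => hu _ (fun hr' => hr (by rw [← Localization.AtPrime.comap_maximalIdeal (I := P.asIdeal)]; exact hr')))
      have h2 : CentralOn u ((Spec.map g ≫ q) ≫ t) := h1.of_comp (𝟙 _) (by simp [q])
      rw [← h2 _ (𝟙 _) y h, mul_inv_cancel_right])
  -- the fibre over `p'`
  let Gc : Over (Spec K) := Red.bc c G
  let Hc : Over (Spec K) := Red.bc c H
  haveI : LocallyOfFiniteType Gc.hom := MorphismProperty.pullback_snd G.hom c ‹_›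
  haveI : IsSeparated Gc.hom := GrpSchLib.isSeparated_hom
  haveI : GeometricallyConnected G.hom :=
    MonoFibre.geometricallyConnected_of_connected_fibres G.hom (η[G] : 𝟙_ (Over S) ⟶ G).left
      (Over.w (η[G] : 𝟙_ (Over S) ⟶ G)) hconn
  haveI : ConnectedSpace Gc.left :=
    GeometricallyConnected.geometrically_connectedSpace (f := G.hom) _ _ _ (IsPullback.of_hasPullback G.hom c)
  let oneK : Over.mk c ⟶ G := 1
  let eK : Spec K ⟶ Gc.left := pullback.lift oneK.left (𝟙 _) (by rw [Category.id_comp]; exact Over.w oneK)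
  let πP : Gc.left ⟶ pullback G.hom (q ≫ t) := pullback.lift (pullback.fst G.hom c)
    (pullback.snd G.hom c ≫ Spec.map a) (by
      rw [Category.assoc, pullback.condition]
      congr 1
      show Spec.map res' ≫ t = Spec.map a ≫ Spec.map (toLoc P) ≫ t
      rw [← Category.assoc (Spec.map a), ← Spec.map_comp, hac])
  have hπe : eK ≫ πP = Spec.map a ≫ e := by
    let k : Over.mk c ⟶ Over.mk (q ≫ t) := Over.homMk (Spec.map a) (by
      show Spec.map a ≫ Spec.map (toLoc P) ≫ t = Spec.map res' ≫ t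
      rw [← Category.assoc, ← Spec.map_comp, hac])
    apply pullback.hom_ext
    · simp only [eK, πP, e, Category.assoc, pullback.lift_fst]
      exact (congrArg CommaMorphism.left (MonObj.comp_one (M := G) k)).symm
    · simp only [eK, πP, e, Category.assoc, pullback.lift_snd, pullback.lift_snd_assoc, Category.id_comp,
        Category.comp_id]
  let pt₀ : Spec K := IsLocalRing.closedPoint p'.asIdeal.ResidueField
  obtain ⟨W, hW, heW, -⟩ := exists_isAffineOpen_mem_and_subset (x := eK pt₀) (U := ⊤) trivial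
  let R : CommRingCat.{u} := Γ(Gc.left, W)
  obtain ⟨qR, hqR⟩ : eK pt₀ ∈ Set.range hW.fromSpec := by rw [hW.range_fromSpec]; exact heW
  obtain ⟨gR, hgR⟩ := Spec.map_surjective (hW.fromSpec ≫ Gc.hom)
  let rR : B ⟶ R := res' ≫ gR
  let σR : Split H (Spec.map rR ≫ t) M := res σ rR
  have hb : Spec.map gR ≫ c = Spec.map rR ≫ t := by simp [c, rR]
  let yR : Over.mk (Spec.map rR ≫ t) ⟶ G := Over.homMk (hW.fromSpec ≫ pullback.fst G.hom c) (by
    show (_ ≫ pullback.fst G.hom c) ≫ G.hom = Spec.map rR ≫ t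
    rw [Category.assoc, pullback.condition, ← hb, hgR, Category.assoc]
    rfl)
  let pr' : Over.mk (Spec.map (gc R M) ≫ Spec.map rR ≫ t) ⟶ Over.mk (Spec.map rR ≫ t) :=
    Over.homMk (Spec.map (gc R M)) rfl
  let a₀ : Over.mk (Spec.map (gc R M) ≫ Spec.map rR ≫ t) ⟶ G := (pr' ≫ yR) * (univ σR ≫ u)
  let b₀ : Over.mk (Spec.map (gc R M) ≫ Spec.map rR ≫ t) ⟶ G := (univ σR ≫ u) * (pr' ≫ yR)
  let liftK : (Over.mk (Spec.map (gc R M) ≫ Spec.map rR ≫ t) ⟶ G) →
      (Over.mk (Spec.map (gc R M) ≫ Spec.map gR) ⟶ Gc) := fun m =>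
    Over.homMk (pullback.lift m.left (Spec.map (gc R M) ≫ Spec.map gR) (by
      rw [Category.assoc, hb]; exact Over.w m)) (pullback.lift_snd _ _ _)
  obtain ⟨J, hJ, hJfg⟩ := exists_eq_ideal (liftK a₀) (liftK b₀)
  have hfst : ∀ m, (liftK m).left ≫ pullback.fst G.hom c = m.left := fun m => pullback.lift_fst _ _ _
  have hJ' : ∀ {E : CommRingCat.{u}} (ψ : GA R M ⟶ E),
      J ≤ RingHom.ker ψ.hom ↔ Spec.map ψ ≫ a₀.left = Spec.map ψ ≫ b₀.left := fun {E} ψ => by
    rw [hJ ψ]
    refine ⟨fun h => ?_, fun h => pullback.hom_ext ?_ ?_⟩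
    · rw [← hfst a₀, ← hfst b₀, ← Category.assoc, h, Category.assoc]
    · rw [Category.assoc, Category.assoc, hfst, hfst, h]
    · show (_ ≫ (liftK a₀).left) ≫ Gc.hom = (_ ≫ (liftK b₀).left) ≫ Gc.hom
      rw [Category.assoc, Category.assoc, Over.w, Over.w]
  -- evaluation at a point
  have heval : ∀ {E : CommRingCat.{u}} (g : R ⟶ E) (χ : Multiplicative M →* E)
      (k : Over.mk (Spec.map g ≫ Spec.map rR ≫ t) ⟶ Over.mk (Spec.map rR ≫ t)), k.left = Spec.map g →
      (J ≤ RingHom.ker (gev g χ).hom ↔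
        (k ≫ yR) * (σR.pt E (Spec.map g) χ ≫ u) = (σR.pt E (Spec.map g) χ ≫ u) * (k ≫ yR)) := fun {E} g χ k hk => by
    have hev : Spec.map (gev g χ) ≫ Spec.map (gc R M) = Spec.map g := by
      rw [← Spec.map_comp]
      congr 1
      exact CommRingCat.hom_ext (L_comp_single g.hom χ)
    let m : Over.mk (Spec.map g ≫ Spec.map rR ≫ t) ⟶ Over.mk (Spec.map (gc R M) ≫ Spec.map rR ≫ t) :=
      Over.homMk (Spec.map (gev g χ)) (by
        show Spec.map (gev g χ) ≫ Spec.map (gc R M) ≫ Spec.map rR ≫ t = _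
        rw [← Category.assoc, hev]; rfl)
    have h1 : m ≫ univ σR = σR.pt E (Spec.map g) χ := Over.OverMorphism.ext (pt_left σR g χ).symm
    have h2 : m ≫ pr' = k := Over.OverMorphism.ext (hev.trans hk.symm)
    have ha : m ≫ a₀ = (k ≫ yR) * (σR.pt E (Spec.map g) χ ≫ u) := by
      simp only [a₀, MonObj.comp_mul, ← Category.assoc, h1, h2]
    have hb' : m ≫ b₀ = (σR.pt E (Spec.map g) χ ≫ u) * (k ≫ yR) := by
      simp only [b₀, MonObj.comp_mul, ← Category.assoc, h1, h2]
    rw [hJ' (gev g χ), ← ha, ← hb']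
    exact ⟨fun h => Over.OverMorphism.ext h, fun h => congrArg CommaMorphism.left h⟩
  -- torsion levels over the local ring
  have hloc : J ≤ RingHom.ker (gmap (toLoc qR) M).hom := by
    rw [hJ]
    let D : CommRingCat.{u} := CommRingCat.of (Localization.AtPrime qR.asIdeal)
    let pD : Spec (GA D M) ⟶ Spec K := Spec.map (gmap (toLoc qR) M) ≫ Spec.map (gc R M) ≫ Spec.map gR
    let kD : Over.mk pD ⟶ Over.mk (Spec.map (gc R M) ≫ Spec.map gR) := Over.homMk (Spec.map (gmap (toLoc qR) M)) rfl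
    refine congrArg CommaMorphism.left (TrivAct.eq_of_levels (D := D) M (kD ≫ liftK a₀) (kD ≫ liftK b₀)
      fun T _ hT π₀ => ?_)
    let ET : CommRingCat.{u} := CommRingCat.of (MonoidAlgebra D T)
    let sT : D ⟶ ET := CommRingCat.ofHom MonoidAlgebra.singleOneRingHom
    let χ' : T →* ET := MonoidAlgebra.of D T
    let gT : R ⟶ ET := toLoc qR ≫ sT
    have hL : gmap (toLoc qR) M ≫ CommRingCat.ofHom (MonoidAlgebra.mapDomainRingHom D π₀) = gev gT (χ'.comp π₀) :=
      CommRingCat.hom_ext (mapDomain_comp_map _ π₀)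
    show Spec.map _ ≫ Spec.map (gmap (toLoc qR) M) ≫ (liftK a₀).left =
      Spec.map _ ≫ Spec.map (gmap (toLoc qR) M) ≫ (liftK b₀).left
    rw [← Category.assoc, ← Category.assoc, ← Spec.map_comp, hL, ← hJ]
    let kT : Over.mk (Spec.map gT ≫ Spec.map rR ≫ t) ⟶ Over.mk (Spec.map rR ≫ t) := Over.homMk (Spec.map gT) rfl
    rw [heval gT _ kT rfl]
    -- the point of the local scheme
    let z₀ : Spec D ⟶ Gc.left := Spec.map (toLoc qR) ≫ hW.fromSpec
    have hz₀ : ∀ y, (z₀ ≫ πP) y ⤳ e cl := fun y => by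
      have h1 : z₀ y ⤳ eK pt₀ := by
        rw [← hqR]
        refine Specializes.map ?_ hW.fromSpec.continuous
        refine (PrimeSpectrum.le_iff_specializes (Spec.map (toLoc qR) y : PrimeSpectrum R) qR).1 ?_
        intro r hr
        by_contra hr'
        exact (y : PrimeSpectrum D).isPrime.ne_top (Ideal.eq_top_of_isUnit_mem _ hr
          (IsLocalization.map_units (Localization.AtPrime qR.asIdeal) (⟨r, hr'⟩ : qR.asIdeal.primeCompl)))
      have h2 : (z₀ ≫ πP) y ⤳ (eK ≫ πP) pt₀ := by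
        simp only [Scheme.Hom.comp_apply]
        exact h1.map πP.continuous
      refine h2.trans ?_
      rw [hπe, Scheme.Hom.comp_apply]
      refine Specializes.map ?_ e.continuous
      exact (PrimeSpectrum.le_iff_specializes (Spec.map a pt₀ : PrimeSpectrum A) cl).1
        (IsLocalRing.le_maximalIdeal (PrimeSpectrum.isPrime _).ne_top)
    obtain ⟨φ, hφ⟩ := hfac D (z₀ ≫ πP) hz₀
    have hiφ : iC ≫ φ = a ≫ gR ≫ toLoc qR := Spec.map_injective (by
      rw [Spec.map_comp, ← hxP, ← Category.assoc, hφ]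
      simp only [z₀, πP, Category.assoc, pullback.lift_snd, Spec.map_comp]
      rw [hgR, Category.assoc]
      rfl)
    have hzz : (Spec.map (φ ≫ sT) ≫ xP ≫ pullback.fst _ _) ≫ G.hom = (Spec.map (iC ≫ φ ≫ sT) ≫ q) ≫ t := by
      simp only [Category.assoc, pullback.condition, reassoc_of% hxP, Spec.map_comp]
    have key := htriv T hT π₀ ET (φ ≫ sT) χ' hzz
    have ez : Spec.map (φ ≫ sT) ≫ xP ≫ pullback.fst _ _ = (kT ≫ yR).left := by
      rw [Spec.map_comp, Category.assoc, reassoc_of% hφ, pullback.lift_fst]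
      show _ = Spec.map gT ≫ hW.fromSpec ≫ pullback.fst G.hom c
      simp only [gT, z₀, Spec.map_comp, Category.assoc]
    have ep : Spec.map (iC ≫ φ ≫ sT) ≫ q = Spec.map gT ≫ Spec.map rR := by
      rw [reassoc_of% hiφ]
      show Spec.map _ ≫ Spec.map (toLoc P) = _
      rw [← Spec.map_comp, ← Spec.map_comp, ← Category.assoc (toLoc P), hac]
      simp [gT, rR]
    have hz1 : (kT ≫ yR).left ≫ G.hom = (Spec.map gT ≫ Spec.map rR) ≫ t := by
      rw [Category.assoc]; exact Over.w (kT ≫ yR)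
    rw [Aw_congr σ (conjAct u u) hzz hz1 _ ep ez, ez] at key
    let k' : Over.mk (Spec.map gT ≫ Spec.map rR ≫ t) ⟶ Over.mk ((Spec.map gT ≫ Spec.map rR) ≫ t) :=
      Over.homMk (𝟙 _) (by simp)
    have h3 : k' ≫ σ.pt ET (Spec.map gT ≫ Spec.map rR) (χ'.comp π₀) = σR.pt ET (Spec.map gT) (χ'.comp π₀) :=
      Over.OverMorphism.ext rfl
    have h4 : k' ≫ (Over.homMk (kT ≫ yR).left hz1 : Over.mk ((Spec.map gT ≫ Spec.map rR) ≫ t) ⟶ G) = kT ≫ yR :=
      Over.OverMorphism.ext (Category.id_comp _)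
    have key' : lift (σ.pt ET (Spec.map gT ≫ Spec.map rR) (χ'.comp π₀)) (Over.homMk (kT ≫ yR).left hz1) ≫
        conjAct u u = Over.homMk (kT ≫ yR).left hz1 := Over.OverMorphism.ext key
    rw [lift_conjAct, mul_inv_eq_iff_eq_mul] at key'
    have key'' := congrArg (k' ≫ ·) key'
    simp only [MonObj.comp_mul, ← Category.assoc, h3, h4] at key''
    exact key''.symm
  obtain ⟨f, hfq, hJf⟩ := exists_away_le_ker qR J (hJfg inferInstance) hloc
  let ℓf : R ⟶ CommRingCat.of (Localization.Away f) := CommRingCat.ofHom (algebraMap R (Localization.Away f))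
  haveI : IsOpenImmersion (Spec.map ℓf) := IsOpenImmersion.of_isLocalization (S := Localization.Away f) f
  let W' : Over (Spec K) := Over.mk ((Spec.map ℓf ≫ hW.fromSpec) ≫ Gc.hom)
  let w : W' ⟶ Gc := Over.homMk (Spec.map ℓf ≫ hW.fromSpec) rfl
  haveI : IsOpenImmersion w.left := inferInstanceAs (IsOpenImmersion (Spec.map ℓf ≫ hW.fromSpec))
  have hwx : eK pt₀ ∈ Set.range w.left := by
    obtain ⟨q', hq'⟩ : (qR : PrimeSpectrum R) ∈ Set.range (PrimeSpectrum.comap (algebraMap R (Localization.Away f))) := by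
      rw [PrimeSpectrum.localization_away_comap_range (Localization.Away f) f]
      exact hfq
    refine ⟨q', ?_⟩
    show (Spec.map ℓf ≫ hW.fromSpec) q' = _
    rw [Scheme.Hom.comp_apply, ← hqR]
    congr 1
  have hkey : ∀ {T : Over (Spec K)} (y : T ⟶ Hc) (a' : T ⟶ W'),
      (y ≫ (Over.pullback c).map u) * (a' ≫ w) = (a' ≫ w) * (y ≫ (Over.pullback c).map u) := fun {T} y a' => by
    obtain ⟨y₀, rfl⟩ := (adjEquiv c H T).surjective y
    obtain ⟨z, hz⟩ := (adjEquiv c G T).surjective (a' ≫ w)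
    rw [← adjEquiv_comp (G := G) c u y₀, ← hz, ← map_mul, ← map_mul]
    congr 1
    have hzl : z.left = a'.left ≫ Spec.map ℓf ≫ hW.fromSpec ≫ pullback.fst G.hom c := by
      rw [← MulEquiv.symm_apply_apply (adjEquiv c G T) z, hz]
      show (a'.left ≫ w.left) ≫ pullback.fst G.hom c = _
      simp [w]
    refine hom_ext_affine _ _ fun E p₀ v => ?_
    rw [MonObj.comp_mul, MonObj.comp_mul, ← Category.assoc]
    obtain ⟨g₁, hg₁⟩ := Spec.map_surjective (v.left ≫ a'.left)
    let g : R ⟶ E := ℓf ≫ g₁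
    have hp₀ : p₀ = Spec.map g ≫ Spec.map rR ≫ t := by
      have h1 : v.left ≫ T.hom ≫ c = p₀ := Over.w v
      have h2 : a'.left ≫ (Spec.map ℓf ≫ hW.fromSpec) ≫ Gc.hom = T.hom := Over.w a'
      rw [← h1, ← h2, ← hb, hgR]
      simp only [g, Spec.map_comp, Category.assoc, hg₁]
    subst hp₀
    let k : Over.mk (Spec.map g ≫ Spec.map rR ≫ t) ⟶ Over.mk (Spec.map rR ≫ t) := Over.homMk (Spec.map g) rfl
    obtain ⟨χ, hχ⟩ := (σR.pt E (Spec.map g)).surjective (v ≫ y₀)
    have hk : k ≫ yR = v ≫ z := Over.OverMorphism.ext (by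
      show Spec.map g ≫ hW.fromSpec ≫ pullback.fst G.hom c = v.left ≫ z.left
      rw [hzl]
      simp only [g, Spec.map_comp, hg₁, Category.assoc])
    have hgen : J ≤ RingHom.ker (gev g χ).hom := fun j hj => by
      have e1 : gev g χ = gmap ℓf M ≫ gev g₁ χ := CommRingCat.hom_ext
        (MonoidAlgebra.ringHom_ext (fun r => by simp [g]) (fun m => by simp [g]))
      rw [RingHom.mem_ker, e1]
      show (gev g₁ χ).hom ((gmap ℓf M).hom j) = 0
      rw [RingHom.mem_ker.1 (hJf hj), map_zero]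
    have := (heval g χ k rfl).1 hgen
    rw [hk, hχ] at this
    exact this.symm
  exact TrivAct.comm_of_bc c u fun X g h => (comm_of_open ((Over.pullback c).map u) w hwx hkey h g).symm

end Groth.Agent.CentralLoc
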