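import Groth.Agent.CentralLoc.Basic
import Groth.Agent.HomTriv.KeyLft
import Groth.Agent.RatMapLib.Unique
/-!
Centrality over a local ring spreads to a basic open.
-/

set_option autoImplicit false
set_option backward.isDefEq.respectTransparency false
set_option backward.isDefEq.respectTransparency.types false
set_option linter.style.haveILetI false

universe u

open CategoryTheory CategoryTheory.Limits MonoidalCategory CartesianMonoidalCategory MonObj AlgebraicGeometry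

noncomputable section

namespace Groth.Agent.CentralLoc

open FixedSmooth HomTriv

/-- An open containing all points over the generalisations of a point contains a neighbourhood of that fibre. -/
theorem exists_basicOpen_preimage_subset {B : CommRingCat.{u}} {X : Scheme.{u}} [CompactSpace X] (j : X ⟶ Spec B)
    (O : X.Opens) (P : PrimeSpectrum B) (h : ∀ z, (j z : PrimeSpectrum B).asIdeal ≤ P.asIdeal → z ∈ O) :
    ∃ f, f ∉ P.asIdeal ∧ ∀ z, f ∉ (j z : PrimeSpectrum B).asIdeal → z ∈ O := by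
  classical
  let 𝒰 := X.affineCover.finiteSubcover
  haveI : ∀ i, IsAffine (𝒰.X i) := fun i => inferInstanceAs (IsAffine (X.affineCover.X _))
  have hloc : ∀ i, ∃ f, f ∉ P.asIdeal ∧ ∀ y : 𝒰.X i, f ∉ (j (𝒰.f i y) : PrimeSpectrum B).asIdeal → 𝒰.f i y ∈ O := fun i => by
    let R : CommRingCat.{u} := Γ(𝒰.X i, ⊤)
    obtain ⟨φ, hφ⟩ := Spec.map_surjective ((𝒰.X i).isoSpec.inv ≫ 𝒰.f i ≫ j)
    let Z : Set (PrimeSpectrum R) := ((𝒰.X i).isoSpec.inv ≫ 𝒰.f i) ⁻¹' (O : Set X)ᶜ
    have hZ : IsClosed Z := O.2.isClosed_compl.preimage ((𝒰.X i).isoSpec.inv ≫ 𝒰.f i).continuous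
    obtain ⟨I, hI⟩ := (PrimeSpectrum.isClosed_iff_zeroLocus_ideal Z).1 hZ
    have hnd : ¬Disjoint (I : Set R) (Submonoid.map φ.hom.toMonoidHom P.asIdeal.primeCompl : Set R) := fun hd => by
      obtain ⟨p, hp, hIp, hpd⟩ := Ideal.exists_le_prime_disjoint I _ hd
      have hpZ : (⟨p, hp⟩ : PrimeSpectrum R) ∈ Z := hI ▸ hIp
      refine hpZ (h _ fun r hr => ?_)
      by_contra hr'
      have hr2 : φ.hom r ∈ p := by
        rw [← Scheme.Hom.comp_apply, Category.assoc, ← hφ] at hr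
        exact hr
      exact Set.disjoint_left.1 hpd hr2 ⟨r, hr', rfl⟩
    obtain ⟨x, hxI, r, hr, rfl⟩ := Set.not_disjoint_iff.1 hnd
    refine ⟨r, hr, fun y hy => ?_⟩
    by_contra hyO
    have hyZ : ((𝒰.X i).isoSpec.hom y : PrimeSpectrum R) ∈ Z := by
      show ((𝒰.X i).isoSpec.inv ≫ 𝒰.f i) ((𝒰.X i).isoSpec.hom y) ∈ (O : Set X)ᶜ
      rw [← Scheme.Hom.comp_apply, Iso.hom_inv_id_assoc]
      exact hyO
    rw [hI] at hyZ
    refine hy ?_
    have h1 : φ.hom r ∈ ((𝒰.X i).isoSpec.hom y : PrimeSpectrum R).asIdeal := hyZ hxI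
    have h2 : Spec.map φ ((𝒰.X i).isoSpec.hom y) = j (𝒰.f i y) := by
      rw [hφ, ← Scheme.Hom.comp_apply, Iso.hom_inv_id_assoc, Scheme.Hom.comp_apply]
    rw [← h2]
    exact h1
  choose f hf hfO using hloc
  haveI : Fintype 𝒰.I₀ := Fintype.ofFinite _
  refine ⟨∏ i, f i, fun hm => ?_, fun z hz => ?_⟩
  · obtain ⟨i, -, hi⟩ := P.isPrime.prod_mem_iff.1 hm
    exact hf i hi
  · obtain ⟨y, hy⟩ := 𝒰.covers z
    rw [← hy] at hz ⊢
    exact hfO _ y fun hi => hz (Ideal.mem_of_dvd _ (Finset.dvd_prod_of_mem f (Finset.mem_univ _)) hi)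

variable {S : Scheme.{u}} {H G : Over S} [GrpObj H] [GrpObj G]

theorem central_spread [LocallyOfFiniteType G.hom] [QuasiCompact G.hom] {B : CommRingCat.{u}} {t : Spec B ⟶ S}
    {M : Type} [AddCommGroup M] (σ : Split H t M) (u : H ⟶ G) (P : PrimeSpectrum B)
    (hc : CentralOn u (Spec.map (toLoc P) ≫ t)) :
    ∃ f, f ∉ P.asIdeal ∧ CentralOn u (Spec.map (CommRingCat.ofHom (algebraMap B (Localization.Away f))) ≫ t) := by
  let T₀ : Over S := Over.mk (Spec.map (gc B M) ≫ t)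
  let X : Over S := T₀ ⊗ G
  let j : X.left ⟶ Spec B := (fst T₀ G).left ≫ Spec.map (gc B M)
  haveI : CompactSpace X.left := by
    haveI : QuasiCompact (fst T₀ G).left :=
      inferInstanceAs (QuasiCompact (pullback.fst (Spec.map (gc B M) ≫ t) G.hom))
    haveI : CompactSpace T₀.left := inferInstanceAs (CompactSpace (Spec (GA B M)))
    exact QuasiCompact.compactSpace_of_compactSpace (fst T₀ G).left
  let a : X ⟶ G := snd T₀ G * ((fst T₀ G ≫ univ σ) ≫ u)
  let b : X ⟶ G := ((fst T₀ G ≫ univ σ) ≫ u) * snd T₀ G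
  have hstalk : ∀ z, (j z : PrimeSpectrum B).asIdeal ≤ P.asIdeal →
      ∃ U : X.left.Opens, z ∈ U ∧ U.ι ≫ a.left = U.ι ≫ b.left := fun z hz => by
    refine RatMapLib.exists_opens_eq_of_fromSpecStalk G.hom a.left b.left (by rw [Over.w, Over.w]) ?_
    let Y : Over S := Over.mk (X.left.fromSpecStalk z ≫ X.hom)
    let k : Y ⟶ X := Over.homMk (X.left.fromSpecStalk z) rfl
    obtain ⟨g, hg⟩ := Spec.map_surjective (X.left.fromSpecStalk z ≫ j)
    have hu : ∀ r : P.asIdeal.primeCompl, IsUnit (g.hom r) := fun r => by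
      by_contra hr
      have h1 : (r : B) ∈ (Spec.map g (IsLocalRing.closedPoint (X.left.presheaf.stalk z)) : PrimeSpectrum B).asIdeal :=
        hr
      rw [hg, Scheme.Hom.comp_apply, Scheme.fromSpecStalk_closedPoint] at h1
      exact r.2 (hz h1)
    let g' : CommRingCat.of (Localization.AtPrime P.asIdeal) ⟶ X.left.presheaf.stalk z :=
      CommRingCat.ofHom (IsLocalization.lift (M := P.asIdeal.primeCompl) hu)
    have hgg : toLoc P ≫ g' = g := CommRingCat.hom_ext (IsLocalization.lift_comp _)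
    let p : Y ⟶ Over.mk (Spec.map (toLoc P) ≫ t) := Over.homMk (Spec.map g') (by
      show Spec.map g' ≫ Spec.map (toLoc P) ≫ t = X.left.fromSpecStalk z ≫ X.hom
      rw [← Category.assoc, ← Spec.map_comp, hgg, hg, Category.assoc]
      congr 1
      )
    have h := hc Y p (k ≫ snd T₀ G) (k ≫ fst T₀ G ≫ univ σ)
    have h' : k ≫ a = k ≫ b := by
      simp only [a, b, MonObj.comp_mul, ← Category.assoc] at h ⊢
      exact h
    exact congrArg CommaMorphism.left h'
  choose! U hzU hU using hstalk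
  let O : X.left.Opens := ⨆ z : {z : X.left // (j z : PrimeSpectrum B).asIdeal ≤ P.asIdeal}, U z.1
  have hO : O.ι ≫ a.left = O.ι ≫ b.left := by
    refine Scheme.hom_ext_of_forall _ _ fun y => ?_
    obtain ⟨z, hz⟩ := TopologicalSpace.Opens.mem_iSup.1 y.2
    refine ⟨O.ι ⁻¹ᵁ U z.1, hz, ?_⟩
    rw [← morphismRestrict_ι_assoc, ← morphismRestrict_ι_assoc, hU z.1 z.2]
  obtain ⟨f, hf, hfO⟩ := exists_basicOpen_preimage_subset j O P fun z hz =>
    TopologicalSpace.Opens.mem_iSup.2 ⟨⟨z, hz⟩, hzU z hz⟩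
  refine ⟨f, hf, fun Y p g h => hom_ext_affine _ _ fun E p₀ w => ?_⟩
  rw [MonObj.comp_mul, MonObj.comp_mul, ← Category.assoc]
  obtain ⟨g₁, hg₁⟩ := Spec.map_surjective (w ≫ p).left
  let ℓ : B ⟶ CommRingCat.of (Localization.Away f) := CommRingCat.ofHom (algebraMap B (Localization.Away f))
  have hp : p₀ = Spec.map (ℓ ≫ g₁) ≫ t := by
    rw [Spec.map_comp, hg₁, Category.assoc]
    exact (Over.w (w ≫ p)).symm
  subst hp
  obtain ⟨χ, hχ⟩ := (σ.pt E (Spec.map (ℓ ≫ g₁))).surjective (w ≫ h)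
  have hev : Spec.map (gev (ℓ ≫ g₁) χ) ≫ Spec.map (gc B M) = Spec.map (ℓ ≫ g₁) := by
    rw [← Spec.map_comp]
    congr 1
    exact CommRingCat.hom_ext (L_comp_single (ℓ ≫ g₁).hom χ)
  let k : Over.mk (Spec.map (ℓ ≫ g₁) ≫ t) ⟶ T₀ := Over.homMk (Spec.map (gev (ℓ ≫ g₁) χ)) (by
    show Spec.map _ ≫ Spec.map (gc B M) ≫ t = _
    rw [← Category.assoc, hev]; rfl)
  have hk : k ≫ univ σ = w ≫ h := by
    rw [← hχ]
    exact Over.OverMorphism.ext (pt_left σ (ℓ ≫ g₁) χ).symm
  let m : Over.mk (Spec.map (ℓ ≫ g₁) ≫ t) ⟶ X := lift k (w ≫ g)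
  have hmO : Set.range m.left ⊆ Set.range O.ι := by
    rw [Scheme.Opens.range_ι]
    rintro _ ⟨y, rfl⟩
    refine hfO _ ?_
    have hmj : m.left ≫ j = Spec.map (ℓ ≫ g₁) := by
      show m.left ≫ (fst T₀ G).left ≫ _ = _
      rw [← Category.assoc, ← Over.comp_left, lift_fst]
      exact hev
    rw [← Scheme.Hom.comp_apply, hmj]
    intro hf'
    exact ((y : PrimeSpectrum E).isPrime.ne_top) (Ideal.eq_top_of_isUnit_mem _ hf'
      ((IsLocalization.Away.algebraMap_isUnit (S := Localization.Away f) f).map g₁.hom))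
  have hab : m ≫ a = m ≫ b := Over.OverMorphism.ext (by
    show m.left ≫ a.left = m.left ≫ b.left
    rw [← IsOpenImmersion.lift_fac O.ι m.left hmO, Category.assoc, Category.assoc, hO])
  simpa only [a, b, m, MonObj.comp_mul, ← Category.assoc, lift_fst, lift_snd, hk] using hab

end Groth.Agent.CentralLoc
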