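import Groth.Agent.CentralLoc.Chart
import Groth.Agent.CentralLoc.Generize
import Groth.Agent.CentralLoc.Spread
import Groth.Agent.HomTriv.Covers
import Groth.Agent.TrivAct.SplitExt
/-!
A homomorphism central at a point is central near that point, for connected fibres.
-/

set_option autoImplicit false
set_option backward.isDefEq.respectTransparency false
set_option backward.isDefEq.respectTransparency.types false
set_option linter.style.haveILetI false

universe u

open CategoryTheory CategoryTheory.Limits MonoidalCategory CartesianMonoidalCategory MonObj AlgebraicGeometry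

noncomputable section

namespace Groth.Agent.CentralLoc

open FixedSmooth HomTriv

variable {S : Scheme.{u}} {H G : Over S} [GrpObj H] [GrpObj G]

theorem exists_nhd_central (hH : SGA3x.IsMultTypeFT H) [LocallyOfFiniteType G.hom] [QuasiCompact G.hom]
    (hconn : ∀ t : S, ConnectedSpace ↥(pullback G.hom (S.fromSpecResidueField t))) (u : H ⟶ G) [IsMonHom u] (s : S)
    (hs : CentralOn u (S.fromSpecResidueField s)) :
    ∃ U : S.Opens, s ∈ U ∧ CentralOn u U.ι := by
  have hcov : HasSplitCoversFG H := hasSplitCoversFG_of_isMultTypeFT hH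
  let E : Set S := {t | CentralOn u (S.fromSpecResidueField t)}
  have hgen : ∀ x y : S, y ⤳ x → x ∈ E → y ∈ E := by
    intro x y hyx hx
    obtain ⟨V, hV, hxV, -⟩ := exists_isAffineOpen_mem_and_subset (x := x) (U := ⊤) trivial
    have hyV : y ∈ V := hyx.mem_open V.2 hxV
    obtain ⟨κ, _, B, g, hfl, hsur, hsp⟩ := hcov.exists_over V hV
    obtain ⟨i, a, ha⟩ := hsur ⟨x, hxV⟩
    haveI := hfl i
    have hsp' : (⟨y, hyV⟩ : V.toScheme) ⤳ g i a := by
      rw [ha]
      exact V.ι.isOpenEmbedding.isInducing.specializes_iff.1 hyx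
    obtain ⟨a', ha', hga'⟩ := Flat.generalizingMap (g i) hsp'
    obtain ⟨M, _, hM, ⟨σ⟩⟩ := hsp i
    haveI := hM
    have e : ∀ z, (g i ≫ V.ι) z = V.ι (g i z) := fun z => Scheme.Hom.comp_apply _ _ _
    have h1 : CentralOn u (S.fromSpecResidueField ((g i ≫ V.ι) a)) := by rw [e, ha]; exact hx
    have h2 := central_of_specializes hconn σ u a a' ((PrimeSpectrum.le_iff_specializes _ _).2 ha') h1
    rwa [e, hga'] at h2
  have hopen : IsOpen E := by
    refine isOpen_iff_forall_mem_open.2 fun x hx => ?_
    obtain ⟨V, hV, hxV, -⟩ := exists_isAffineOpen_mem_and_subset (x := x) (U := ⊤) trivial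
    obtain ⟨κ, _, B, g, hfl, hsur, hsp⟩ := hcov.exists_over V hV
    haveI : IsAffine V.toScheme := hV
    haveI : IsAffine (∐ fun i => Spec (B i)) := inferInstance
    haveI : Flat (Sigma.desc g) := by
      haveI : IsZariskiLocalAtSource (@Flat.{u}) :=
        HasRingHomProperty.instIsZariskiLocalAtSource.{u} (Q := RingHom.Flat)
      exact IsZariskiLocalAtSource.sigmaDesc hfl
    haveI : Surjective (Sigma.desc g) := ⟨fun z => by
      obtain ⟨i, a, ha⟩ := hsur z
      exact ⟨Sigma.ι (fun i => Spec (B i)) i a, by erw [← Scheme.Hom.comp_apply, Sigma.ι_desc]; exact ha⟩⟩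
    have hop : IsOpen (V.ι ⁻¹' E) := by
      rw [← (Flat.isQuotientMap_of_surjective (Sigma.desc g)).isOpen_preimage]
      have : (Sigma.desc g) ⁻¹' (V.ι ⁻¹' E) =
          ⋃ i, (Sigma.ι (fun i => Spec (B i)) i) '' ((g i ≫ V.ι) ⁻¹' E) := by
        ext z
        constructor
        · intro hz
          obtain ⟨⟨i, a⟩, rfl⟩ := (sigmaMk (fun i => Spec (B i))).surjective z
          refine Set.mem_iUnion.2 ⟨i, a, ?_, (sigmaMk_mk (fun i => Spec (B i)) i a).symm⟩
          simp only [Set.mem_preimage, sigmaMk_mk, ← Scheme.Hom.comp_apply] at hz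
          erw [Sigma.ι_desc] at hz
          simpa using hz
        · rintro hz
          obtain ⟨i, a, ha, rfl⟩ := Set.mem_iUnion.1 hz
          simp only [Set.mem_preimage, ← Scheme.Hom.comp_apply]
          erw [Sigma.ι_desc]
          simpa using ha
      rw [this]
      refine isOpen_iUnion fun i => (Sigma.ι (fun i => Spec (B i)) i).isOpenEmbedding.isOpenMap _ ?_
      obtain ⟨M, _, hM, ⟨σ⟩⟩ := hsp i
      refine isOpen_iff_forall_mem_open.2 fun P hP => ?_
      have hloc : CentralOn u (Spec.map (toLoc P) ≫ g i ≫ V.ι) := by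
        refine central_chart (res σ (toLoc P)) u fun Q => ?_
        rw [Scheme.Hom.comp_apply]
        refine hgen _ _ ?_ hP
        refine Specializes.map ?_ (g i ≫ V.ι).continuous
        refine (PrimeSpectrum.le_iff_specializes (Spec.map (toLoc P) Q : PrimeSpectrum (B i)) P).1 ?_
        intro r hr
        by_contra hr'
        exact (Q : PrimeSpectrum (CommRingCat.of (Localization.AtPrime P.asIdeal))).isPrime.ne_top
          (Ideal.eq_top_of_isUnit_mem _ hr
            (IsLocalization.map_units (Localization.AtPrime P.asIdeal) (⟨r, hr'⟩ : P.asIdeal.primeCompl)))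
      obtain ⟨f, hf, hfc⟩ := central_spread σ u P hloc
      refine ⟨(PrimeSpectrum.basicOpen f : Set (PrimeSpectrum (B i))), fun P' hP' => ?_,
        (PrimeSpectrum.basicOpen f).2, hf⟩
      refine fibre_of_residue u (g i ≫ V.ι) P' (hfc.of_comp (Spec.map (CommRingCat.ofHom
        (IsLocalization.Away.lift f (g := algebraMap (B i) (P' : PrimeSpectrum (B i)).asIdeal.ResidueField)
          (IsUnit.mk0 _ (mt Ideal.algebraMap_residueField_eq_zero.1 hP'))))) ?_)
      rw [← Category.assoc, ← Spec.map_comp]
      congr 2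
      exact CommRingCat.hom_ext (IsLocalization.Away.lift_comp f
        (IsUnit.mk0 _ (mt Ideal.algebraMap_residueField_eq_zero.1 hP')))
    exact ⟨V.ι '' (V.ι ⁻¹' E), Set.image_preimage_subset _ _, V.ι.isOpenEmbedding.isOpenMap _ hop,
      ⟨⟨x, hxV⟩, hx, rfl⟩⟩
  let U : S.Opens := ⟨E, hopen⟩
  refine ⟨U, hs, fun Y p g h => TrivAct.ext_of_split hcov.hasSplitCovers fun B q M _ σ w => ?_⟩
  have hc : CentralOn u q := central_chart σ u fun P => by
    have : q P ∈ E := by
      have h' : q = (w ≫ p).left ≫ U.ι := (Over.w (w ≫ p)).symm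
      rw [h', Scheme.Hom.comp_apply]
      exact ((w ≫ p).left P).2
    exact this
  simpa only [MonObj.comp_mul, Category.assoc] using hc _ (𝟙 _) (w ≫ g) (w ≫ h)

end Groth.Agent.CentralLoc
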